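import Cfsg.Agent.Lib.FFPair.Setting

/-!
Consequences: `C_A(span) = 1`, `|V| = |A| |C_V(A)|`, `|C_V(A)| = |A| |C_V(P)|`, and the faithfulness on `V / C_V(P)`.
-/

set_option autoImplicit false

namespace Cfsg.Agent.FFPair

open Subgroup
open scoped commutatorElement

variable {G : Type*} [Group G] [Finite G] {p : ℕ} [Fact p.Prime]

namespace Setting

variable {V P M A W₀ : Subgroup G} (h : Setting p V P M A W₀)
include h

theorem card_span_inf {x : G} (hx : x ∈ P) :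
    Nat.card ↥(span P W₀ ⊓ centralizer ((cj x A : Subgroup G) : Set G)) =
      Nat.card ↥(span P W₀ ⊓ centralizer (A : Set G)) := by
  refine Eq.trans ?_ (card_map_of_injective (f := (MulAut.conj x).toMonoidHom) (MulAut.conj x).injective)
  congr 2
  refine le_antisymm (fun v hv => ?_) ?_
  · refine mem_cj.mpr ⟨by simpa using h.conj_span (inv_mem hx) hv.1, fun b hb => ?_⟩
    have := hv.2 (x * b * x⁻¹) ⟨b, hb, rfl⟩
    calc b * (x⁻¹ * v * x) = x⁻¹ * (x * b * x⁻¹ * v) * x := by group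
      _ = x⁻¹ * v * x * b := by rw [this]; group
  · rintro _ ⟨v, hv, rfl⟩
    exact ⟨h.conj_span hx hv.1, conj_mem_centralizer hv.2⟩

theorem exists_split {x : G} (hx : x ∈ P) (hxM : x ∉ M) {u : G} (hu : u ∈ span P W₀) :
    ∃ y ∈ span P W₀ ⊓ centralizer (A : Set G),
      ∃ y' ∈ span P W₀ ⊓ centralizer ((cj x A : Subgroup G) : Set G), y * y' = u :=
  h.split (inf_le_left.trans h.spanV) (inf_le_left.trans h.spanV) (h.span_le hx hxM hu)

/-- The map `a ↦ [u, a]` modulo `C_V(P)` has kernel inside `C_A(span)`. -/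
theorem card_le_span {x u : G} (hx : x ∈ P) (hxM : x ∉ M)
    (hu : u ∈ span P W₀ ⊓ centralizer ((cj x A : Subgroup G) : Set G))
    (huZ : u ∉ centralizer (P : Set G)) :
    Nat.card ↥A * Nat.card ↥(span P W₀ ⊓ centralizer (P : Set G)) ≤
      Nat.card ↥(A ⊓ centralizer (span P W₀ : Set G)) *
        Nat.card ↥(span P W₀ ⊓ centralizer (A : Set G)) := by
  set U := span P W₀
  set UY := U ⊓ centralizer (A : Set G)
  set UZ := U ⊓ centralizer (P : Set G)
  have hle : UZ ≤ UY := inf_le_inf_left _ (centralizer_le (SetLike.coe_subset_coe.mpr h.AP))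
  have : (UZ.subgroupOf UY).Normal := ⟨fun n hn g => by
    have : g * n * g⁻¹ = n := Subtype.ext (by
      show (g : G) * n * (g : G)⁻¹ = n
      rw [h.commV (h.spanV g.2.1) (h.spanV n.2.1), mul_inv_cancel_right])
    rwa [this]⟩
  let c : ↥A → ↥UY := fun a => ⟨⁅(a : G), u⁆,
    mem_inf.mpr ⟨by rw [commutatorElement_def]; exact mul_mem (h.conj_span (h.AP a.2) hu.1) (inv_mem hu.1),
    by
      rw [commutatorElement_def]
      exact h.comm_swap (h.spanV hu.1) a.2⟩⟩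
  let f : ↥A →* ↥UY ⧸ UZ.subgroupOf UY :=
    { toFun := fun a => QuotientGroup.mk (c a)
      map_one' := by
        rw [QuotientGroup.eq_one_iff, mem_subgroupOf]
        show ⁅(1 : G), u⁆ ∈ UZ
        rw [commutatorElement_one_left]; exact one_mem _
      map_mul' := fun a b => by
        rw [← QuotientGroup.mk_mul]
        congr 1
        refine Subtype.ext ?_
        show ⁅(a : G) * b, u⁆ = ⁅(a : G), u⁆ * ⁅(b : G), u⁆
        have h1 : (a : G) * ⁅(b : G), u⁆ * (a : G)⁻¹ = ⁅(b : G), u⁆ := by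
          rw [(c b).2.2 a a.2, mul_inv_cancel_right]
        rw [h.commV (h.spanV (c a).2.1) (h.spanV (c b).2.1)]
        rw [show ⁅(a : G) * b, u⁆ = (a : G) * ⁅(b : G), u⁆ * (a : G)⁻¹ * ⁅(a : G), u⁆ by
          simp only [commutatorElement_def]; group, h1] }
  have hker : f.ker.map A.subtype ≤ A ⊓ centralizer (U : Set G) := by
    rintro _ ⟨a, ha, rfl⟩
    refine ⟨a.2, ?_⟩
    by_contra hac
    have ha' : ⁅(a : G), u⁆ ∈ UZ := mem_subgroupOf.mp ((QuotientGroup.eq_one_iff _).mp ha)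
    obtain ⟨x', hx', hx'M, hgen⟩ := h.exists_gen a.2 hac
    obtain ⟨y, hy, y', hy', e⟩ := h.exists_split hx' hx'M hu.1
    have := h.mem_of_comm a.2 hx' hgen ⟨h.spanV hy.1, hy.2⟩ ⟨h.spanV hy'.1, hy'.2⟩ e.symm
      ⟨h.spanV ha'.1, ha'.2⟩
    exact huZ (h.meet hx hxM (h.spanV hu.1) this.2 hu.2).2
  have h1 : Nat.card ↥f.ker ≤ Nat.card ↥(A ⊓ centralizer (U : Set G)) :=
    (card_map_of_injective (f := A.subtype) A.subtype_injective).symm.le.trans (card_le_of_le hker)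
  have h2 : f.ker.index ≤ Nat.card (↥UY ⧸ UZ.subgroupOf UY) := by
    rw [index_ker]; exact Subgroup.card_le_card_group _
  have h3 := card_eq_card_quotient_mul_card_subgroup (UZ.subgroupOf UY)
  rw [Nat.card_congr (subgroupOfEquivOfLe hle).toEquiv] at h3
  rw [← f.ker.card_mul_index, h3, ← mul_assoc]
  exact Nat.mul_le_mul_right _ (Nat.mul_le_mul h1 h2)

theorem exists_moved {x : G} (hx : x ∈ P) (hxM : x ∉ M) :
    ∃ u ∈ span P W₀ ⊓ centralizer ((cj x A : Subgroup G) : Set G), u ∉ centralizer (P : Set G) := by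
  by_contra hc
  push Not at hc
  refine h.span_not_central fun u hu => ?_
  obtain ⟨y, hy, y', hy', rfl⟩ := h.exists_split hx hxM hu
  refine mul_mem ?_ (hc y' hy')
  have h1 := hc (x * y * x⁻¹) ⟨h.conj_span hx hy.1, conj_mem_centralizer hy.2⟩
  intro g hg
  have := h1 (x * g * x⁻¹) (mul_mem (mul_mem hx hg) (inv_mem hx))
  calc g * y = x⁻¹ * (x * g * x⁻¹ * (x * y * x⁻¹)) * x := by group
    _ = y * g := by rw [this]; group

theorem card_span {x : G} (hx : x ∈ P) (hxM : x ∉ M) :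
    Nat.card ↥(span P W₀) * Nat.card ↥(span P W₀ ⊓ centralizer (P : Set G)) =
      Nat.card ↥(span P W₀ ⊓ centralizer (A : Set G)) *
        Nat.card ↥(span P W₀ ⊓ centralizer (A : Set G)) := by
  have h1 := PGV.card_inf_mul_card_sup h.hV.1
    (inf_le_left.trans h.spanV : span P W₀ ⊓ centralizer (A : Set G) ≤ V)
    (inf_le_left.trans h.spanV : span P W₀ ⊓ centralizer ((cj x A : Subgroup G) : Set G) ≤ V)
  rw [le_antisymm (sup_le inf_le_left inf_le_left) (h.span_le hx hxM), h.card_span_inf hx] at h1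
  convert h1 using 4
  refine le_antisymm (fun v hv => ?_) fun v hv => ⟨hv.1.1, (h.meet hx hxM (h.spanV hv.1.1) hv.1.2 hv.2.2).2⟩
  exact ⟨⟨hv.1, centralizer_le (SetLike.coe_subset_coe.mpr h.AP) hv.2⟩, hv.1,
    centralizer_le (SetLike.coe_subset_coe.mpr (h.cjA_le hx)) hv.2⟩

theorem card_sup_span :
    Nat.card ↥(span P W₀ ⊔ (V ⊓ centralizer (A : Set G))) *
        Nat.card ↥(span P W₀ ⊓ centralizer (A : Set G)) =
      Nat.card ↥(span P W₀) * Nat.card ↥(V ⊓ centralizer (A : Set G)) := by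
  have h1 := PGV.card_inf_mul_card_sup h.hV.1 h.spanV (inf_le_left : V ⊓ centralizer (A : Set G) ≤ V)
  rwa [← inf_assoc, inf_eq_left.mpr h.spanV] at h1

theorem faithful_span : A ⊓ centralizer (span P W₀ : Set G) = ⊥ ∧
    span P W₀ ⊔ (V ⊓ centralizer (A : Set G)) = V ∧
    Nat.card ↥V = Nat.card ↥A * Nat.card ↥(V ⊓ centralizer (A : Set G)) ∧
    Nat.card ↥(span P W₀ ⊓ centralizer (A : Set G)) =
      Nat.card ↥A * Nat.card ↥(span P W₀ ⊓ centralizer (P : Set G)) := by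
  obtain ⟨x, hx, hxM⟩ := h.exists_not_mem
  obtain ⟨u, hu, huZ⟩ := h.exists_moved hx hxM
  have e1 := h.card_span hx hxM
  have e2 := h.card_sup_span
  have e3 := h.card_le_span hx hxM hu huZ
  set U := span P W₀
  set A₁ := A ⊓ centralizer (U : Set G)
  set Y := V ⊓ centralizer (A : Set G)
  set qY := Nat.card ↥(U ⊓ centralizer (A : Set G))
  set qZ := Nat.card ↥(U ⊓ centralizer (P : Set G))
  have pY : 0 < qY := Nat.card_pos
  have pZ : 0 < qZ := Nat.card_pos
  have pYY : 0 < Nat.card ↥Y := Nat.card_pos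
  -- `|U ⊔ Y| |U ∩ Z| = |U ∩ Y| |Y|`
  have e4 : Nat.card ↥(U ⊔ Y) * qZ = qY * Nat.card ↥Y := by
    refine Nat.eq_of_mul_eq_mul_right pY ?_
    calc Nat.card ↥(U ⊔ Y) * qZ * qY = Nat.card ↥(U ⊔ Y) * qY * qZ := by ring
      _ = Nat.card ↥U * qZ * Nat.card ↥Y := by rw [e2]; ring
      _ = _ := by rw [e1]; ring
  have hUYV : U ⊔ Y ≤ V := sup_le h.spanV inf_le_left
  have hA1Y : U ⊔ Y ≤ V ⊓ centralizer (A₁ : Set G) :=
    sup_le (le_inf h.spanV (le_centralizer_iff.mp inf_le_right))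
      (inf_le_inf_left _ (centralizer_le (SetLike.coe_subset_coe.mpr inf_le_left)))
  have e5 : Nat.card ↥A * Nat.card ↥Y ≤ Nat.card ↥A₁ * Nat.card ↥(U ⊔ Y) := by
    refine Nat.le_of_mul_le_mul_right ?_ pZ
    calc Nat.card ↥A * Nat.card ↥Y * qZ = Nat.card ↥A * qZ * Nat.card ↥Y := by ring
      _ ≤ Nat.card ↥A₁ * qY * Nat.card ↥Y := Nat.mul_le_mul_right _ e3
      _ = _ := by rw [mul_assoc, ← e4, mul_assoc]
  have hA1 : A₁ = ⊥ := by
    by_contra hne
    have hneA : A₁ ≠ A := by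
      intro e
      have hAU : A ≤ centralizer (U : Set G) := inf_eq_left.mp e
      refine h.span_not_central ?_
      have key : centralizer (P : Set G) =
          centralizer (A : Set G) ⊓ centralizer ((cj x A : Subgroup G) : Set G) := by
        rw [← Offender.centralizer_sup_eq, h.gen x hx hxM]
      rw [key]
      refine le_inf (le_centralizer_iff.mp hAU) fun v hv => ?_
      rintro _ ⟨a, ha, rfl⟩
      show x * a * x⁻¹ * v = v * (x * a * x⁻¹)
      have hv' : x⁻¹ * v * x ∈ U := by simpa using h.conj_span (inv_mem hx) hv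
      calc x * a * x⁻¹ * v = x * (a * (x⁻¹ * v * x)) * x⁻¹ := by group
        _ = v * (x * a * x⁻¹) := by rw [(le_centralizer_iff.mp hAU hv' a ha)]; group
    have := h.strict A₁ inf_le_left
      (h.inf_centralizer_normalized fun g hg u hu => h.conj_span hg.1 hu) hne hneA
    exact absurd (e5.trans (Nat.mul_le_mul_left (Nat.card ↥A₁) (card_le_of_le hA1Y))) this.not_ge
  rw [hA1, Subgroup.card_bot, one_mul] at e5
  have e6 : U ⊔ Y = V := eq_of_le_of_card_ge hUYV (h.le.trans e5)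
  rw [e6] at e5 e4
  have e7 : Nat.card ↥V = Nat.card ↥A * Nat.card ↥Y := le_antisymm h.le e5
  refine ⟨hA1, e6, e7, Nat.eq_of_mul_eq_mul_right pYY ?_⟩
  rw [← e4, e7]; ring

theorem sup_meet {x : G} (hx : x ∈ P) (hxM : x ∉ M) :
    (V ⊓ centralizer (A : Set G)) ⊔ (V ⊓ centralizer ((cj x A : Subgroup G) : Set G)) = V := by
  refine le_antisymm (sup_le inf_le_left inf_le_left) ?_
  conv_lhs => rw [← h.faithful_span.2.1]
  refine sup_le ((h.span_le hx hxM).trans ?_) le_sup_left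
  exact sup_le_sup (inf_le_inf_right _ h.spanV) (inf_le_inf_right _ h.spanV)

theorem card_meet : Nat.card ↥(V ⊓ centralizer (A : Set G)) =
    Nat.card ↥A * Nat.card ↥(V ⊓ centralizer (P : Set G)) := by
  obtain ⟨x, hx, hxM⟩ := h.exists_not_mem
  set Y := V ⊓ centralizer (A : Set G)
  set Y' := V ⊓ centralizer ((cj x A : Subgroup G) : Set G)
  have hY' : Nat.card ↥Y' = Nat.card ↥Y := by
    refine Eq.trans ?_ (card_map_of_injective (f := (MulAut.conj x).toMonoidHom) (MulAut.conj x).injective)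
    congr 2
    refine le_antisymm (fun v hv => ?_) ?_
    · refine mem_cj.mpr ⟨by simpa using h.conjV (inv_mem hx) hv.1, fun b hb => ?_⟩
      have := hv.2 (x * b * x⁻¹) ⟨b, hb, rfl⟩
      calc b * (x⁻¹ * v * x) = x⁻¹ * (x * b * x⁻¹ * v) * x := by group
        _ = x⁻¹ * v * x * b := by rw [this]; group
    · rintro _ ⟨v, hv, rfl⟩
      exact h.conj_mem_meet hx hv
  have h1 := PGV.card_inf_mul_card_sup h.hV.1 (inf_le_left : Y ≤ V) (inf_le_left : Y' ≤ V)
  rw [h.sup_meet hx hxM, hY', h.faithful_span.2.2.1] at h1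
  have hinf : Y ⊓ Y' = V ⊓ centralizer (P : Set G) :=
    le_antisymm (fun v hv => h.meet hx hxM hv.1.1 hv.1.2 hv.2.2) fun v hv =>
      ⟨⟨hv.1, centralizer_le (SetLike.coe_subset_coe.mpr h.AP) hv.2⟩, hv.1,
        centralizer_le (SetLike.coe_subset_coe.mpr (h.cjA_le hx)) hv.2⟩
  rw [hinf, mul_right_comm] at h1
  exact (Nat.eq_of_mul_eq_mul_right Nat.card_pos h1).symm

/-- An element of `A^#` moves exactly `V ∖ C_V(A)` modulo `C_V(P)`. -/
theorem mem_meet_of_comm {a v : G} (ha : a ∈ A) (ha1 : a ≠ 1) (hv : v ∈ V)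
    (hc : a * v * a⁻¹ * v⁻¹ ∈ V ⊓ centralizer (P : Set G)) : v ∈ V ⊓ centralizer (A : Set G) := by
  have hac : a ∉ centralizer (span P W₀ : Set G) := fun hm =>
    ha1 (mem_bot.mp (h.faithful_span.1 ▸ (⟨ha, hm⟩ : a ∈ A ⊓ centralizer (span P W₀ : Set G))))
  obtain ⟨x, hx, hxM, hgen⟩ := h.exists_gen ha hac
  obtain ⟨y, hy, y', hy', e⟩ := h.split inf_le_left inf_le_left ((h.sup_meet hx hxM).symm ▸ hv :
      v ∈ (V ⊓ centralizer (A : Set G)) ⊔ (V ⊓ centralizer ((cj x A : Subgroup G) : Set G)))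
  exact h.mem_of_comm ha hx hgen hy hy' e.symm hc

/-- `V = span · C_V(P)`. -/
theorem span_sup : span P W₀ ⊔ (V ⊓ centralizer (P : Set G)) = V := by
  set U := span P W₀
  set Z := V ⊓ centralizer (P : Set G)
  set Y := V ⊓ centralizer (A : Set G)
  have hZY : Z ≤ Y := inf_le_inf_left _ (centralizer_le (SetLike.coe_subset_coe.mpr h.AP))
  have hUY : U ⊓ centralizer (A : Set G) ≤ Y := inf_le_inf_right _ h.spanV
  have heq : (U ⊓ centralizer (A : Set G)) ⊔ Z = Y := by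
    refine eq_of_le_of_card_ge (sup_le hUY hZY) ?_
    have h1 := PGV.card_inf_mul_card_sup h.hV.1 (inf_le_left.trans h.spanV :
      U ⊓ centralizer (A : Set G) ≤ V) (inf_le_left : Z ≤ V)
    have hinf : (U ⊓ centralizer (A : Set G)) ⊓ Z = U ⊓ centralizer (P : Set G) :=
      le_antisymm (fun v hv => ⟨hv.1.1, hv.2.2⟩) fun v hv =>
        ⟨⟨hv.1, centralizer_le (SetLike.coe_subset_coe.mpr h.AP) hv.2⟩, h.spanV hv.1, hv.2⟩
    rw [hinf, h.faithful_span.2.2.2, mul_right_comm, ← h.card_meet] at h1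
    exact (Nat.eq_of_mul_eq_mul_right Nat.card_pos h1).ge
  refine le_antisymm (sup_le h.spanV inf_le_left) ?_
  refine h.faithful_span.2.1.ge.trans (sup_le le_sup_left ?_)
  show Y ≤ _
  rw [← heq]
  exact sup_le (inf_le_left.trans le_sup_left) le_sup_right

/-- Faithful on `V / C_V(P)`. -/
theorem eq_one_of_trivial {g : G} (hg : g ∈ P)
    (htriv : ∀ v ∈ V, g * v * g⁻¹ * v⁻¹ ∈ V ⊓ centralizer (P : Set G)) : g = 1 := by
  set Z := V ⊓ centralizer (P : Set G)
  have hZc : ∀ z ∈ Z, ∀ k ∈ P, k * z * k⁻¹ = z := fun z hz k hk => by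
    rw [hz.2 k hk, mul_inv_cancel_right]
  let K : Subgroup G :=
    { carrier := {k | k ∈ P ∧ ∀ v ∈ V, k * v * k⁻¹ * v⁻¹ ∈ Z}
      one_mem' := ⟨one_mem P, fun v _ => by simp⟩
      mul_mem' := fun {k l} hk hl => ⟨mul_mem hk.1 hl.1, fun v hv => by
        rw [show k * l * v * (k * l)⁻¹ * v⁻¹ =
          k * (l * v * l⁻¹ * v⁻¹) * k⁻¹ * (k * v * k⁻¹ * v⁻¹) by group, hZc _ (hl.2 v hv) k hk.1]
        exact mul_mem (hl.2 v hv) (hk.2 v hv)⟩
      inv_mem' := fun {k} hk => ⟨inv_mem hk.1, fun v hv => by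
        rw [show k⁻¹ * v * k⁻¹⁻¹ * v⁻¹ = k⁻¹ * (k * v * k⁻¹ * v⁻¹)⁻¹ * k⁻¹⁻¹ by group,
          hZc _ (inv_mem (hk.2 v hv)) _ (inv_mem hk.1)]
        exact inv_mem (hk.2 v hv)⟩ }
  have hKP : K ≤ P := fun k hk => hk.1
  have hKn : P ≤ normalizer (K : Set G) := by
    have key : ∀ q ∈ P, ∀ k ∈ K, q * k * q⁻¹ ∈ K := fun q hq k hk =>
      ⟨mul_mem (mul_mem hq hk.1) (inv_mem hq), fun v hv => by
        have h1 := hk.2 (q⁻¹ * v * q) (by simpa using h.conjV (inv_mem hq) hv)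
        rw [show q * k * q⁻¹ * v * (q * k * q⁻¹)⁻¹ * v⁻¹ =
          q * (k * (q⁻¹ * v * q) * k⁻¹ * (q⁻¹ * v * q)⁻¹) * q⁻¹ by group, hZc _ h1 q hq]
        exact h1⟩
    intro q hq
    refine mem_normalizer_iff.mpr fun k => ⟨key q hq k, fun hk => ?_⟩
    have := key q⁻¹ (inv_mem hq) _ hk
    rwa [show q⁻¹ * (q * k * q⁻¹) * q⁻¹⁻¹ = k by group] at this
  have hKp : IsPGroup p ↥K := fun k => ⟨1, by
    refine Subtype.ext ?_
    rw [pow_one, Subgroup.coe_pow, Subgroup.coe_one]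
    have hmem : (k : G) ^ p ∈ P ⊓ centralizer (V : Set G) := by
      refine ⟨pow_mem k.2.1 p, fun v hv => ?_⟩
      set d := (k : G) * v * (k : G)⁻¹ * v⁻¹ with hd
      have hdZ : d ∈ Z := k.2.2 v hv
      have key : ∀ n : ℕ, (k : G) ^ n * v * ((k : G) ^ n)⁻¹ = d ^ n * v := by
        intro n
        induction n with
        | zero => simp
        | succ n ih =>
          calc (k : G) ^ (n + 1) * v * ((k : G) ^ (n + 1))⁻¹
              = (k : G) * ((k : G) ^ n * v * ((k : G) ^ n)⁻¹) * (k : G)⁻¹ := by group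
            _ = ((k : G) * d ^ n * (k : G)⁻¹) * ((k : G) * v * (k : G)⁻¹) := by rw [ih]; group
            _ = d ^ n * (d * v) := by
              rw [hZc _ (pow_mem hdZ n) _ k.2.1, show d * v = (k : G) * v * (k : G)⁻¹ by rw [hd]; group]
            _ = d ^ (n + 1) * v := by rw [pow_succ]; exact (mul_assoc _ _ _).symm
      have := key p
      rw [h.hV.2 d hdZ.1, one_mul] at this
      exact (mul_inv_eq_iff_eq_mul.mp this).symm
    rw [h.faith, mem_bot] at hmem
    exact hmem⟩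
  have hgK : g ∈ K := ⟨hg, htriv⟩
  have hcV : g ∈ centralizer (V : Set G) := by
    have h1 := h.pnormal K hKP hKn hKp hgK
    intro v hv
    obtain ⟨u, hu, z, hz, rfl⟩ := h.split h.spanV inf_le_left (h.span_sup.symm ▸ hv :
        v ∈ span P W₀ ⊔ Z)
    rw [mul_assoc, ← hz.2 g hg, ← mul_assoc, h1 u hu, mul_assoc]
  exact mem_bot.mp (h.faith ▸ (⟨hg, hcV⟩ : g ∈ P ⊓ centralizer (V : Set G)))

/-- `C_V(A) = [V, A] C_V(P)`. -/
theorem meet_eq : V ⊓ centralizer (A : Set G) = ⁅V, A⁆ ⊔ (V ⊓ centralizer (P : Set G)) := by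
  set Y := V ⊓ centralizer (A : Set G)
  set Z := V ⊓ centralizer (P : Set G)
  obtain ⟨x, hx, hxM⟩ := h.exists_not_mem
  obtain ⟨v, hv, hvZ⟩ := h.exists_moved hx hxM
  have hvV := h.spanV hv.1
  have hle : ⁅V, A⁆ ⊔ Z ≤ Y := sup_le (commutator_le.mpr fun w hw a ha => h.comm_mem_centralizer hw ha)
    (inf_le_inf_left _ (centralizer_le (SetLike.coe_subset_coe.mpr h.AP)))
  refine (eq_of_le_of_card_ge hle ?_).symm
  rw [h.card_meet]
  let f : ↥A × ↥Z → ↥(⁅V, A⁆ ⊔ Z) := fun q => ⟨⁅v, (q.1 : G)⁆ * q.2,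
    mul_mem (mem_sup_left (commutator_mem_commutator hvV q.1.2)) (mem_sup_right q.2.2)⟩
  have hf : Function.Injective f := by
    rintro ⟨a, z⟩ ⟨b, z'⟩ e
    have e' : ⁅v, (a : G)⁆ * z = ⁅v, (b : G)⁆ * z' := congrArg Subtype.val e
    suffices hab : a = b by
      subst hab
      rw [Prod.mk.injEq]
      exact ⟨rfl, Subtype.ext (mul_left_cancel e')⟩
    by_contra hne
    set c : G := (b : G)⁻¹ * a with hc
    have hc1 : c ≠ 1 := fun e1 => hne (Subtype.ext (inv_mul_eq_one.mp e1).symm)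
    have hcA : c ∈ A := mul_mem (inv_mem b.2) a.2
    have hmem : ⁅v, c⁆ ∈ Z := by
      have h2 : ⁅v, (a : G)⁆ = ⁅v, (b : G)⁆ * ⁅v, c⁆ := by
        have hbc : (b : G) * ⁅v, c⁆ * (b : G)⁻¹ = ⁅v, c⁆ := by
          rw [(h.comm_mem_centralizer hvV hcA).2 b b.2, mul_inv_cancel_right]
        calc ⁅v, (a : G)⁆ = ⁅v, (b : G)⁆ * ((b : G) * ⁅v, c⁆ * (b : G)⁻¹) := by
              rw [hc]; simp only [commutatorElement_def]; group
          _ = _ := by rw [hbc]
      rw [h2, mul_assoc] at e'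
      have e'' := mul_left_cancel e'
      rw [show ⁅v, c⁆ = (z' : G) * (z : G)⁻¹ by rw [← e'', mul_inv_cancel_right]]
      exact mul_mem z'.2 (inv_mem z.2)
    have := inv_mem hmem
    rw [commutatorElement_inv, commutatorElement_def] at this
    exact hvZ (h.meet hx hxM hvV (h.mem_meet_of_comm hcA hc1 hvV this).2 hv.2).2
  calc Nat.card ↥A * Nat.card ↥Z = Nat.card (↥A × ↥Z) := (Nat.card_prod _ _).symm
    _ ≤ _ := Nat.card_le_card_of_injective f hf

end Setting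

end Cfsg.Agent.FFPair
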