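import Cfsg.Agent.Lib.FFPair.Natural

/-!
The conjugates of `C_V(A)` in the pair `A`, `A^x` cover `V`; `|V| |C_V(P)| = |C_V(A)|²`.
-/

set_option autoImplicit false

open Subgroup

namespace Cfsg.Agent.FFPair

variable {G : Type*} [Group G] [Finite G] {p : ℕ} [Fact p.Prime]

namespace Setting

variable {V P M A W₀ : Subgroup G} (h : Setting p V P M A W₀)
include h

/-- Every vector is centralised by `A` or by some `(A^x)^a`, `a ∈ A`. -/
theorem cover {x v : G} (hx : x ∈ P) (hxM : x ∉ M) (hv : v ∈ V) :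
    v ∈ centralizer (A : Set G) ∨
      ∃ a ∈ A, v ∈ centralizer ((cj (a * x) A : Subgroup G) : Set G) := by
  classical
  set Y := V ⊓ centralizer (A : Set G)
  set Z := V ⊓ centralizer (P : Set G)
  have hZY : Z ≤ Y := inf_le_inf_left _ (centralizer_le (SetLike.coe_subset_coe.mpr h.AP))
  have hZc : ∀ z ∈ Z, ∀ g ∈ P, g * z * g⁻¹ = z := fun z hz g hg => by
    rw [hz.2 g hg, mul_inv_cancel_right]
  obtain ⟨y, hy, y', hy', e⟩ := h.split inf_le_left inf_le_left ((h.sup_meet hx hxM).symm ▸ hv :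
    v ∈ Y ⊔ (V ⊓ centralizer ((cj x A : Subgroup G) : Set G)))
  by_cases hy'Z : y' ∈ Z
  · exact Or.inl (e ▸ mul_mem hy.2 (hZY hy'Z).2)
  refine Or.inr ?_
  let c : G → G := fun a => a * y' * a⁻¹ * y'⁻¹
  have hc : ∀ a ∈ A, c a ∈ Y := fun a ha =>
    mem_inf.mpr ⟨mul_mem (h.conjV (h.AP ha) hy'.1) (inv_mem hy'.1), h.comm_swap hy'.1 ha⟩
  let f : ↥A × ↥Z → ↥Y := fun q => ⟨c q.1 * q.2, mul_mem (hc _ q.1.2) (hZY q.2.2)⟩
  have hf : Function.Injective f := by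
    rintro ⟨a, z⟩ ⟨b, z'⟩ e1
    have e2 : c a * z = c b * z' := congrArg Subtype.val e1
    suffices hab : a = b by
      subst hab
      rw [Prod.mk.injEq]
      exact ⟨rfl, Subtype.ext (mul_left_cancel e2)⟩
    by_contra hne
    apply hy'Z
    have hd : c ((b : G)⁻¹ * a) ∈ Z := by
      have e3 : (c b)⁻¹ * c a ∈ Z := by
        rw [show (c b)⁻¹ * c a = (z' : G) * (z : G)⁻¹ by
          rw [eq_mul_inv_iff_mul_eq, mul_assoc, e2, inv_mul_cancel_left]]
        exact mul_mem z'.2 (inv_mem z.2)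
      have key : c ((b : G)⁻¹ * a) = (b : G)⁻¹ * ((c a) * (c b)⁻¹) * (b : G)⁻¹⁻¹ := by
        show (b : G)⁻¹ * a * y' * ((b : G)⁻¹ * a)⁻¹ * y'⁻¹ =
          (b : G)⁻¹ * ((a * y' * (a : G)⁻¹ * y'⁻¹) * (b * y' * (b : G)⁻¹ * y'⁻¹)⁻¹) * (b : G)⁻¹⁻¹
        group
      have hswap : c a * (c b)⁻¹ = (c b)⁻¹ * c a :=
        h.commV (hc _ a.2).1 (inv_mem (hc _ b.2).1)
      rw [key, hswap, hZc _ e3 _ (inv_mem (h.AP b.2))]
      exact e3
    have hm := h.mem_meet_of_comm (a := (b : G)⁻¹ * a) (mul_mem (inv_mem b.2) a.2)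
      (fun e1 => hne (Subtype.ext (inv_mul_eq_one.mp e1)).symm) hy'.1 hd
    exact h.meet hx hxM hy'.1 hm.2 hy'.2
  have hbij : Function.Bijective f :=
    (Nat.bijective_iff_injective_and_card _).mpr ⟨hf, by rw [Nat.card_prod, h.card_meet]⟩
  obtain ⟨⟨a, z⟩, haz⟩ := hbij.2 ⟨y, hy⟩
  have haz' : c a * z = y := congrArg Subtype.val haz
  refine ⟨a, a.2, ?_⟩
  have hax : (a : G) * x ∈ P := mul_mem (h.AP a.2) hx
  have hv' : v = ((a : G) * y' * (a : G)⁻¹) * z := by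
    have hzy : (z : G) * y' = y' * z := h.commV z.2.1 hy'.1
    calc v = c a * ((z : G) * y') := by rw [← e, ← haz', mul_assoc]
      _ = _ := by rw [hzy]; show (a : G) * y' * (a : G)⁻¹ * y'⁻¹ * (y' * z) = _; group
  rw [hv', ← cj_cj]
  refine mul_mem (conj_mem_centralizer hy'.2) ?_
  rw [cj_cj]
  exact centralizer_le (SetLike.coe_subset_coe.mpr (h.cjA_le hax)) z.2.2

/-- `|V| |C_V(P)| = |C_V(A)|²`. -/
theorem card_V : Nat.card ↥V * Nat.card ↥(V ⊓ centralizer (P : Set G)) =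
    Nat.card ↥(V ⊓ centralizer (A : Set G)) * Nat.card ↥(V ⊓ centralizer (A : Set G)) := by
  obtain ⟨x, hx, hxM⟩ := h.exists_not_mem
  set Y := V ⊓ centralizer (A : Set G)
  set Y' := V ⊓ centralizer ((cj x A : Subgroup G) : Set G)
  have hY' : Nat.card ↥Y' = Nat.card ↥Y := by
    refine Eq.trans ?_ (card_map_of_injective (f := (MulAut.conj x).toMonoidHom) (MulAut.conj x).injective)
    congr 2
    refine le_antisymm (fun v hv => ?_) ?_
    · refine mem_cj.mpr ⟨by simpa using h.conjV (inv_mem hx) hv.1, fun b hb => ?_⟩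
      have := hv.2 (x * b * x⁻¹) ⟨b, hb, rfl⟩
      calc b * (x⁻¹ * v * x) = x⁻¹ * (x * b * x⁻¹ * v) * x := by group
        _ = x⁻¹ * v * x * b := by rw [this]; group
    · rintro _ ⟨v, hv, rfl⟩
      exact h.conj_mem_meet hx hv
  have h1 := PGV.card_inf_mul_card_sup h.hV.1 (inf_le_left : Y ≤ V) (inf_le_left : Y' ≤ V)
  have hinf : Y ⊓ Y' = V ⊓ centralizer (P : Set G) :=
    le_antisymm (fun v hv => h.meet hx hxM hv.1.1 hv.1.2 hv.2.2) fun v hv =>
      ⟨⟨hv.1, centralizer_le (SetLike.coe_subset_coe.mpr h.AP) hv.2⟩, hv.1,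
        centralizer_le (SetLike.coe_subset_coe.mpr (h.cjA_le hx)) hv.2⟩
  rw [h.sup_meet hx hxM, hY', hinf] at h1
  rw [← h1, mul_comm]

end Setting

end Cfsg.Agent.FFPair
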