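import Cfsg.Prelude.Def_BaumannBlocks
import Cfsg.Agent.Lib.FFPair.Counting
import Cfsg.Agent.Lib.SpreadPair.Basic

/-!
`P` is `SL₂(F)`, `|F| = |A|`, and `V / C_V(P)` is its natural module.
-/

set_option autoImplicit false

open Subgroup
open scoped commutatorElement MatrixGroups

namespace Cfsg.Agent.FFPair

variable {G : Type*} [Group G] [Finite G] {p : ℕ} [Fact p.Prime]

namespace Setting

variable {V P M A W₀ : Subgroup G} (h : Setting p V P M A W₀)
include h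

/-- Two conjugates of `C_V(A)` in different cosets of `M` meet in `C_V(P)`. -/
theorem meet2 {g k : G} (hg : g ∈ P) (hk : k ∈ P) (hgk : k⁻¹ * g ∉ M) {v : G}
    (h1 : v ∈ centralizer ((cj k A : Subgroup G) : Set G))
    (h2 : v ∈ centralizer ((cj g A : Subgroup G) : Set G)) : v ∈ centralizer (P : Set G) := by
  rw [← h.gen2 hg hk hgk, Offender.centralizer_sup_eq]
  exact ⟨h1, h2⟩

theorem exists_sl_two : ∃ (F : Type) (_ : Field F) (_ : Fintype F), Fintype.card F = Nat.card ↥A ∧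
    Nonempty (↥P ≃* SL(2, F)) ∧
    Cfsg.ActsAsSL2OnSection F ⊤ P V (V ⊓ centralizer (P : Set G)) := by
  classical
  let _ : CommGroup ↥V :=
    { (inferInstance : Group ↥V) with mul_comm := fun a b => Subtype.ext (h.commV a.2 b.2) }
  obtain ⟨x, hx, hxM⟩ := h.exists_not_mem
  set N := V ⊓ centralizer (P : Set G) with hN
  set Z0 : Subgroup ↥V := N.subgroupOf V
  have hNc : ∀ z ∈ N, ∀ g ∈ P, g * z * g⁻¹ = z := fun z hz g hg => by
    rw [hz.2 g hg, mul_inv_cancel_right]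
  have hNcj : ∀ g ∈ P, N ≤ centralizer ((cj g A : Subgroup G) : Set G) := fun g hg =>
    inf_le_right.trans (centralizer_le (SetLike.coe_subset_coe.mpr (h.cjA_le hg)))
  -- the action
  let φ : ↥P → (↥V →* ↥V) := fun g => MonoidHom.mk'
    (fun v => ⟨(g : G) * v * (g : G)⁻¹, h.conjV g.2 v.2⟩)
    fun v w => Subtype.ext (show (g : G) * (v * w : G) * (g : G)⁻¹ =
      ((g : G) * v * (g : G)⁻¹) * ((g : G) * w * (g : G)⁻¹) by group)
  have hφZ : ∀ g, Z0 ≤ Z0.comap (φ g) := fun g v hv => by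
    rw [mem_comap, mem_subgroupOf]
    rw [mem_subgroupOf] at hv
    show (g : G) * v * (g : G)⁻¹ ∈ N
    rw [hNc _ hv _ g.2]; exact hv
  let π : ↥V → Additive (↥V ⧸ Z0) := fun v => Additive.ofMul (QuotientGroup.mk v)
  have hπsurj : Function.Surjective π := fun w => by
    obtain ⟨v, hv⟩ := QuotientGroup.mk_surjective (Additive.toMul w)
    exact ⟨v, hv⟩
  have hπadd : ∀ v w, π (v * w) = π v + π w := fun v w => rfl
  have hπsub : ∀ v w, π (v * w⁻¹) = π v - π w := fun v w => by rw [sub_eq_add_neg]; rfl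
  have hπzero : ∀ v : ↥V, π v = 0 ↔ (v : G) ∈ N := fun v =>
    (QuotientGroup.eq_one_iff v).trans mem_subgroupOf
  have hπeq : ∀ v w : ↥V, π v = π w → (v : G)⁻¹ * w ∈ N := fun v w e =>
    mem_subgroupOf.mp (QuotientGroup.eq.mp (Additive.ofMul.injective e))
  let r : ↥P →* AddMonoid.End (Additive (↥V ⧸ Z0)) :=
    { toFun := fun g => MonoidHom.toAdditive (QuotientGroup.map Z0 Z0 (φ g) (hφZ g))
      map_one' := AddMonoidHom.ext fun w => by
        obtain ⟨v, rfl⟩ := hπsurj w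
        show π (φ 1 v) = π v
        exact congrArg π (Subtype.ext (show (1 : G) * v * (1 : G)⁻¹ = v by group))
      map_mul' := fun g k => AddMonoidHom.ext fun w => by
        obtain ⟨v, rfl⟩ := hπsurj w
        show π (φ (g * k) v) = π (φ g (φ k v))
        exact congrArg π (Subtype.ext (show ((g : G) * k) * v * ((g : G) * k)⁻¹ =
          (g : G) * ((k : G) * v * (k : G)⁻¹) * (g : G)⁻¹ by group)) }
  have hr : ∀ g v, r g (π v) = π (φ g v) := fun g v => rfl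
  -- the lines
  let line : G → AddSubgroup (Additive (↥V ⧸ Z0)) := fun g =>
    { carrier := {w | ∃ v : ↥V, (v : G) ∈ centralizer ((cj g A : Subgroup G) : Set G) ∧ π v = w}
      zero_mem' := ⟨1, one_mem _, rfl⟩
      add_mem' := by
        rintro _ _ ⟨v, hv, rfl⟩ ⟨w, hw, rfl⟩
        exact ⟨v * w, mul_mem hv hw, rfl⟩
      neg_mem' := by
        rintro _ ⟨v, hv, rfl⟩
        exact ⟨v⁻¹, inv_mem hv, rfl⟩ }
  have hline : ∀ g ∈ P, ∀ v : ↥V, π v ∈ line g ↔ (v : G) ∈ centralizer ((cj g A : Subgroup G) : Set G) := by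
    refine fun g hg v => ⟨fun ⟨w, hw, e⟩ => ?_, fun hv => ⟨v, hv, rfl⟩⟩
    have := mul_mem hw (hNcj g hg (hπeq _ _ e))
    rwa [mul_inv_cancel_left] at this
  have hcj1 : cj (1 : G) A = A := by
    ext y; rw [mem_cj]; simp
  set X := line 1
  set X' := line x
  have hX : ∀ v : ↥V, π v ∈ X ↔ (v : G) ∈ centralizer (A : Set G) := fun v => by
    rw [hline 1 (one_mem P), hcj1]
  have hX' : ∀ v : ↥V, π v ∈ X' ↔ (v : G) ∈ centralizer ((cj x A : Subgroup G) : Set G) :=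
    hline x hx
  set A' := A.subgroupOf P
  set B' := (cj x A).subgroupOf P
  have hsA : SpreadPair.Shears r A' X X' := by
    refine ⟨fun a ha w hw => ?_, fun a ha w => ?_, fun a ha ha1 w hw e => ?_⟩
    · obtain ⟨v, rfl⟩ := hπsurj w
      rw [hr]
      exact congrArg π (Subtype.ext (show (a : G) * v * (a : G)⁻¹ = v by
        rw [(hX v).mp hw a ha, mul_inv_cancel_right]))
    · obtain ⟨v, rfl⟩ := hπsurj w
      rw [hr, ← hπsub, hX]
      exact h.comm_swap v.2 ha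
    · obtain ⟨v, rfl⟩ := hπsurj w
      rw [hr] at e
      rw [← sub_eq_zero, ← hπsub, hπzero] at e
      have h1 := h.mem_meet_of_comm (a := (a : G)) ha (fun e1 => ha1 (Subtype.ext e1)) v.2 e
      exact (hπzero v).mpr (h.meet hx hxM v.2 h1.2 ((hX' v).mp hw))
  have hxb : ∀ b ∈ cj x A, ∃ a ∈ A, b = x * a * x⁻¹ := fun b ⟨a, ha, e⟩ => ⟨a, ha, e.symm⟩
  have hsB : SpreadPair.Shears r B' X' X := by
    refine ⟨fun a ha w hw => ?_, fun b hb w => ?_, fun b hb hb1 w hw e => ?_⟩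
    · obtain ⟨v, rfl⟩ := hπsurj w
      rw [hr]
      exact congrArg π (Subtype.ext (show (a : G) * v * (a : G)⁻¹ = v by
        rw [(hX' v).mp hw a ha, mul_inv_cancel_right]))
    · obtain ⟨v, rfl⟩ := hπsurj w
      obtain ⟨a, ha, eb⟩ := hxb (b : G) hb
      rw [hr, ← hπsub, hX']
      show (b : G) * v * (b : G)⁻¹ * (v : G)⁻¹ ∈ _
      have hv' : x⁻¹ * v * x ∈ V := by simpa using h.conjV (inv_mem hx) v.2
      rw [eb, show x * a * x⁻¹ * (v : G) * (x * a * x⁻¹)⁻¹ * (v : G)⁻¹ =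
        x * (a * (x⁻¹ * v * x) * a⁻¹ * (x⁻¹ * v * x)⁻¹) * x⁻¹ by group]
      exact conj_mem_centralizer (h.comm_swap hv' ha)
    · obtain ⟨v, rfl⟩ := hπsurj w
      obtain ⟨a, ha, eb⟩ := hxb (b : G) hb
      rw [hr] at e
      rw [← sub_eq_zero, ← hπsub, hπzero] at e
      change (b : G) * v * (b : G)⁻¹ * (v : G)⁻¹ ∈ N at e
      have hv' : x⁻¹ * v * x ∈ V := by simpa using h.conjV (inv_mem hx) v.2
      rw [eb, show x * a * x⁻¹ * (v : G) * (x * a * x⁻¹)⁻¹ * (v : G)⁻¹ =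
        x * (a * (x⁻¹ * v * x) * a⁻¹ * (x⁻¹ * v * x)⁻¹) * x⁻¹ by group] at e
      have e' : a * (x⁻¹ * v * x) * a⁻¹ * (x⁻¹ * v * x)⁻¹ ∈ N := by
        have h1 := hNc _ e _ (inv_mem hx)
        rw [show x⁻¹ * (x * (a * (x⁻¹ * v * x) * a⁻¹ * (x⁻¹ * v * x)⁻¹) * x⁻¹) * x⁻¹⁻¹ =
          a * (x⁻¹ * v * x) * a⁻¹ * (x⁻¹ * v * x)⁻¹ by group] at h1
        rw [h1]; exact e
      have ha1 : a ≠ 1 := fun e1 => hb1 (Subtype.ext (by rw [eb, e1, mul_one, mul_inv_cancel]; rfl))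
      have h2 : (v : G) ∈ centralizer ((cj x A : Subgroup G) : Set G) := by
        have h3 := conj_mem_centralizer (x := x) (h.mem_meet_of_comm ha ha1 hv' e').2
        rwa [show x * (x⁻¹ * (v : G) * x) * x⁻¹ = v by group] at h3
      exact (hπzero v).mpr (h.meet hx hxM v.2 ((hX v).mp hw) h2)
  have hgen : A' ⊔ B' = ⊤ := by
    show A.subgroupOf P ⊔ (cj x A).subgroupOf P = ⊤
    rw [← subgroupOf_sup h.AP (h.cjA_le hx), h.gen x hx hxM, subgroupOf_self]
  have hdis : ∀ w ∈ X, w ∈ X' → w = 0 := by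
    intro w h1 h2
    obtain ⟨v, rfl⟩ := hπsurj w
    exact (hπzero v).mpr (h.meet hx hxM v.2 ((hX v).mp h1) ((hX' v).mp h2))
  have hsup : X ⊔ X' = ⊤ := by
    refine eq_top_iff.mpr fun w _ => ?_
    obtain ⟨v, rfl⟩ := hπsurj w
    obtain ⟨y, hy, y', hy', e⟩ := h.split inf_le_left inf_le_left
      ((h.sup_meet hx hxM).symm ▸ v.2 : (v : G) ∈
        (V ⊓ centralizer (A : Set G)) ⊔ (V ⊓ centralizer ((cj x A : Subgroup G) : Set G)))
    rw [show v = ⟨y, hy.1⟩ * ⟨y', hy'.1⟩ from Subtype.ext e.symm, hπadd]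
    exact add_mem (AddSubgroup.mem_sup_left ((hX _).mpr hy.2))
      (AddSubgroup.mem_sup_right ((hX' _).mpr hy'.2))
  have hcard : Nat.card ↥A' = Nat.card ↥X := by
    rw [Nat.card_congr (subgroupOfEquivOfLe h.AP).toEquiv]
    set Y := V ⊓ centralizer (A : Set G)
    let f : ↥Y →* ↥V ⧸ Z0 := (QuotientGroup.mk' Z0).comp (Subgroup.inclusion (inf_le_left : Y ≤ V))
    have hker : f.ker.map Y.subtype = N := by
      refine le_antisymm ?_ fun z hz => ⟨⟨z, hz.1, centralizer_le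
        (SetLike.coe_subset_coe.mpr h.AP) hz.2⟩, ?_, rfl⟩
      · rintro _ ⟨y, hy, rfl⟩
        exact mem_subgroupOf.mp ((QuotientGroup.eq_one_iff (Subgroup.inclusion (inf_le_left : Y ≤ V) y)).mp hy)
      · exact (QuotientGroup.eq_one_iff (⟨z, hz.1⟩ : ↥V)).mpr (mem_subgroupOf.mpr hz)
    have h1 := f.ker.card_mul_index
    rw [index_ker, ← card_map_of_injective (f := Y.subtype) Y.subtype_injective, hker, h.card_meet,
      mul_comm] at h1
    rw [← Nat.eq_of_mul_eq_mul_right Nat.card_pos h1]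
    refine Nat.card_congr (Equiv.subtypeEquiv Additive.ofMul fun q => ⟨?_, ?_⟩)
    · rintro ⟨y, rfl⟩
      exact (hX ⟨y, y.2.1⟩).mpr y.2.2
    · rintro ⟨v, hv, e⟩
      rw [hcj1] at hv
      exact ⟨⟨v, v.2, hv⟩, Additive.ofMul.injective e⟩
  have hAB : Nat.card ↥B' = Nat.card ↥A' := by
    rw [Nat.card_congr (subgroupOfEquivOfLe (h.cjA_le hx)).toEquiv,
      Nat.card_congr (subgroupOfEquivOfLe h.AP).toEquiv]
    exact card_map_of_injective (f := (MulAut.conj x).toMonoidHom) (MulAut.conj x).injective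
  have hX0 : X ≠ ⊥ := by
    rw [← AddSubgroup.one_lt_card_iff_ne_bot, ← hcard,
      Nat.card_congr (subgroupOfEquivOfLe h.AP).toEquiv, Subgroup.one_lt_card_iff_ne_bot]
    exact h.A_ne_bot
  have hfaith : Function.Injective r := by
    refine (injective_iff_map_eq_one r).mpr fun g hg => Subtype.ext ?_
    refine h.eq_one_of_trivial g.2 fun v hv => ?_
    have h1 : r g (π ⟨v, hv⟩) = π ⟨v, hv⟩ := by rw [hg]; rfl
    rw [hr, ← sub_eq_zero, ← hπsub, hπzero] at h1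
    exact h1
  -- every vector off `X` lies on some `a X'`
  have hcov : ∀ w, w ∉ X → ∃ a ∈ A', ∃ v : ↥V,
      (v : G) ∈ centralizer ((cj ((a : G) * x) A : Subgroup G) : Set G) ∧ π v = w := by
    intro w hw
    obtain ⟨y, hy, y', hy', rfl⟩ :=
      AddSubgroup.mem_sup.mp (hsup.symm ▸ AddSubgroup.mem_top w : w ∈ X ⊔ X')
    have hy0 : y' ≠ 0 := fun e => hw (by rw [e, add_zero]; exact hy)
    let g : ↥A' → ↥X := fun a => SpreadPair.shift hsA a.2 ⟨y', hy'⟩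
    have hg : Function.Bijective g := by
      refine (Nat.bijective_iff_injective_and_card _).mpr ⟨fun a b e => ?_, hcard⟩
      have h1 := SpreadPair.shift_mul hsA (mul_mem a.2 (inv_mem b.2)) b.2 ⟨y', hy'⟩
      have e' : SpreadPair.shift hsA a.2 ⟨y', hy'⟩ = SpreadPair.shift hsA b.2 ⟨y', hy'⟩ := e
      have e'' : SpreadPair.shift hsA (mul_mem (mul_mem a.2 (inv_mem b.2)) b.2) ⟨y', hy'⟩ =
          SpreadPair.shift hsA a.2 ⟨y', hy'⟩ := Subtype.ext (by
        rw [SpreadPair.coe_shift, SpreadPair.coe_shift, inv_mul_cancel_right])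
      rw [e'', e', right_eq_add] at h1
      have h2 := sub_eq_zero.mp (congrArg Subtype.val h1)
      by_contra hne
      exact hy0 (hsA.reg _ (mul_mem a.2 (inv_mem b.2))
        (fun e1 => hne (Subtype.ext (mul_inv_eq_one.mp e1))) y' hy' h2)
    obtain ⟨a, ha⟩ := hg.2 ⟨y, hy⟩
    obtain ⟨v', rfl⟩ := hπsurj y'
    refine ⟨a, a.2, φ a v', ?_, ?_⟩
    · show ((a : ↥P) : G) * v' * ((a : ↥P) : G)⁻¹ ∈ _
      rw [← cj_cj]
      exact conj_mem_centralizer ((hX' v').mp hy')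
    · have h1 : r (a : ↥P) (π v') - π v' = y := congrArg Subtype.val ha
      rw [← hr, ← h1, sub_add_cancel]
  -- `M` fixes `X`
  have hM : ∀ g ∈ M, ∀ v : ↥V, (v : G) ∈ centralizer (A : Set G) →
      g * (v : G) * g⁻¹ ∈ centralizer (A : Set G) := by
    intro g hg v hv
    have hu : g * (v : G) * g⁻¹ ∈ V := h.conjV (h.MP hg) v.2
    by_contra hc
    obtain ⟨a, ha, v', hv', e⟩ := hcov (π ⟨_, hu⟩) (fun hm => hc ((hX ⟨_, hu⟩).mp hm))
    have hax : (a : G) * x ∈ P := mul_mem a.2 hx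
    have hne : g⁻¹ * ((a : G) * x) ∉ M := fun hm => hxM (by
      have := mul_mem (inv_mem (h.AM ha : (a : G) ∈ M)) (mul_mem hg hm)
      rwa [show (a : G)⁻¹ * (g * (g⁻¹ * ((a : G) * x))) = x by group] at this)
    have hu' : g * (v : G) * g⁻¹ ∈ centralizer ((cj ((a : G) * x) A : Subgroup G) : Set G) :=
      (hline _ hax ⟨_, hu⟩).mp ⟨v', hv', e⟩
    exact hc (centralizer_le (SetLike.coe_subset_coe.mpr h.AP)
      (h.meet2 hax (h.MP hg) hne (conj_mem_centralizer hv) hu'))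
  have hconj : ∀ g : ↥P, (∀ w ∈ X, r g w ∈ X) ∨ ∃ a ∈ A', ∀ w ∈ X, ∃ x' ∈ X', r g w = r a x' := by
    intro g
    by_cases hg : (g : G) ∈ M
    · refine .inl fun w hw => ?_
      obtain ⟨v, rfl⟩ := hπsurj w
      exact (hX _).mpr (hM g hg v ((hX v).mp hw))
    refine .inr ?_
    obtain ⟨⟨w₀, hw₀⟩, hw₀'⟩ := (AddSubgroup.ne_bot_iff_exists_ne_zero).mp hX0
    obtain ⟨v₀, rfl⟩ := hπsurj w₀
    have hv₀N : (v₀ : G) ∉ N := fun hm => hw₀' (Subtype.ext ((hπzero v₀).mpr hm))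
    have hgv : (φ g v₀ : G) ∈ centralizer ((cj (g : G) A : Subgroup G) : Set G) :=
      conj_mem_centralizer ((hX v₀).mp hw₀)
    have hgvN : (φ g v₀ : G) ∉ centralizer (P : Set G) := fun hm => hv₀N (by
      have h1 := hNc _ (⟨(φ g v₀).2, hm⟩ : (φ g v₀ : G) ∈ N) _ (inv_mem g.2)
      have h2 : (g : G)⁻¹ * (φ g v₀ : G) * (g : G)⁻¹⁻¹ = v₀ := by
        show (g : G)⁻¹ * ((g : G) * v₀ * (g : G)⁻¹) * (g : G)⁻¹⁻¹ = v₀
        group
      rw [← h2, h1]
      exact ⟨(φ g v₀).2, hm⟩)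
    obtain ⟨a, ha, v', hv', e⟩ := hcov (π (φ g v₀)) (fun hm => hgvN
      (h.meet2 g.2 (one_mem P) (by rwa [inv_one, one_mul]) (by rw [hcj1]; exact (hX _).mp hm) hgv))
    refine ⟨a, ha, fun w hw => ?_⟩
    obtain ⟨v, rfl⟩ := hπsurj w
    have hax : (a : G) * x ∈ P := mul_mem a.2 hx
    have hgvax : (φ g v₀ : G) ∈ centralizer ((cj ((a : G) * x) A : Subgroup G) : Set G) :=
      (hline _ hax _).mp ⟨v', hv', e⟩
    have hm : (g : G)⁻¹ * ((a : G) * x) ∈ M := by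
      by_contra hne
      exact hgvN (h.meet2 hax g.2 hne hgv hgvax)
    have hu : x⁻¹ * (a : G)⁻¹ * (g : G) ∈ M := by
      have := inv_mem hm
      rwa [show ((g : G)⁻¹ * ((a : G) * x))⁻¹ = x⁻¹ * (a : G)⁻¹ * (g : G) by group] at this
    have h1 := hM _ hu v ((hX v).mp hw)
    refine ⟨π (φ ((a : ↥P)⁻¹ * g) v), (hX' _).mpr ?_, ?_⟩
    · show ((a : G)⁻¹ * (g : G)) * v * ((a : G)⁻¹ * (g : G))⁻¹ ∈ _
      rw [show ((a : G)⁻¹ * (g : G)) * v * ((a : G)⁻¹ * (g : G))⁻¹ =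
        x * ((x⁻¹ * (a : G)⁻¹ * (g : G)) * v * (x⁻¹ * (a : G)⁻¹ * (g : G))⁻¹) * x⁻¹ by group]
      exact conj_mem_centralizer h1
    · rw [← hr, ← SpreadPair.r_mul, mul_inv_cancel_left]
  have hp : ∀ w : Additive (↥V ⧸ Z0), p • w = 0 := fun w => by
    obtain ⟨v, rfl⟩ := hπsurj w
    exact (congrArg π (Subtype.ext (h.hV.2 v v.2) : v ^ p = 1)).trans rfl
  obtain ⟨F, hF, hFt, ρ, e, hcardF, hρ⟩ := SpreadPair.exists_natural hp hsA hsB hgen hdis hsup hX0
    hcard hAB hfaith hconj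
  refine ⟨F, hF, hFt, hcardF.trans (Nat.card_congr (subgroupOfEquivOfLe h.AP).toEquiv), ⟨ρ⟩,
    h.hPV, inf_le_left, ρ.toMonoidHom,
    MonoidHom.mk' (fun v => Multiplicative.ofAdd (e.symm (π v))) fun v w => ?_, ?_, ?_, ?_, ?_⟩
  · rw [hπadd, map_add, ofAdd_add]
  · exact MonoidHom.range_eq_top.mpr ρ.surjective
  · intro q
    obtain ⟨v, hv⟩ := hπsurj (e (Multiplicative.toAdd q))
    exact ⟨v, by show Multiplicative.ofAdd (e.symm (π v)) = q; rw [hv, AddEquiv.symm_apply_apply]; rfl⟩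
  · intro u
    show Multiplicative.ofAdd (e.symm (π u)) = 1 ↔ _
    rw [ofAdd_eq_one, AddEquiv.map_eq_zero_iff, hπzero]
  · intro g u
    refine ⟨φ g u, rfl, ?_⟩
    show e.symm (π (φ g u)) = _
    rw [← hr]
    conv_lhs => rw [← e.apply_symm_apply (π u), hρ, e.symm_apply_apply]
    rfl

end Setting

end Cfsg.Agent.FFPair
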