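import Cfsg.Agent.Lib.Offender.Replacement
import Cfsg.Agent.Lib.PGV.Basic
import Cfsg.Agent.Lib.Coprime.Basic

/-!
A minimal offender `A` generating, with each conjugate outside the maximal subgroup `M`, a group `P`
that moves `W₀ ≤ C_V(A)`: quadratic action, `V = C_V(A) C_V(A^x)`, `|C_V(A)| = |A| |C_V(P)|`.
-/

set_option autoImplicit false

namespace Cfsg.Agent.FFPair

open Subgroup
open scoped commutatorElement

variable {G : Type*} [Group G]

/-- Conjugate subgroup. -/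
abbrev cj (x : G) (H : Subgroup G) : Subgroup G := H.map (MulAut.conj x).toMonoidHom

theorem mem_cj {x g : G} {H : Subgroup G} : g ∈ cj x H ↔ x⁻¹ * g * x ∈ H := by
  constructor
  · rintro ⟨h, hh, rfl⟩
    show x⁻¹ * (x * h * x⁻¹) * x ∈ H
    rwa [show x⁻¹ * (x * h * x⁻¹) * x = h by group]
  · intro h
    exact ⟨_, h, show x * (x⁻¹ * g * x) * x⁻¹ = g by group⟩

theorem cj_cj (x y : G) (H : Subgroup G) : cj x (cj y H) = cj (x * y) H := by
  ext g
  rw [mem_cj, mem_cj, mem_cj, mul_inv_rev]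
  simp only [mul_assoc]

theorem conj_mem_centralizer {x v : G} {H : Subgroup G} (hv : v ∈ centralizer (H : Set G)) :
    x * v * x⁻¹ ∈ centralizer ((cj x H : Subgroup G) : Set G) := by
  rintro _ ⟨h, hh, rfl⟩
  show x * h * x⁻¹ * (x * v * x⁻¹) = x * v * x⁻¹ * (x * h * x⁻¹)
  rw [show x * h * x⁻¹ * (x * v * x⁻¹) = x * (h * v) * x⁻¹ by group, hv h hh]
  group

/-- The span of the conjugates of `W₀`. -/
def span (P W₀ : Subgroup G) : Subgroup G := ⨆ g : ↥P, cj (g : G) W₀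

/-- The hypotheses. -/
structure Setting (p : ℕ) (V P M A W₀ : Subgroup G) : Prop where
  hV : Cfsg.IsElementaryAbelian p V
  hPV : P ≤ normalizer (V : Set G)
  faith : P ⊓ centralizer (V : Set G) = ⊥
  AM : A ≤ M
  MP : M ≤ P
  Mne : M ≠ P
  hA : Cfsg.IsElementaryAbelian p A
  le : Nat.card ↥V ≤ Nat.card ↥A * Nat.card ↥(V ⊓ centralizer (A : Set G))
  max : ∀ A₀ : Subgroup G, A₀ ≤ A →
    Nat.card ↥A₀ * Nat.card ↥(V ⊓ centralizer (A₀ : Set G)) ≤
      Nat.card ↥A * Nat.card ↥(V ⊓ centralizer (A : Set G))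
  strict : ∀ A₀ : Subgroup G, A₀ ≤ A → P ⊓ normalizer (A : Set G) ≤ normalizer (A₀ : Set G) →
    A₀ ≠ ⊥ → A₀ ≠ A →
    Nat.card ↥A₀ * Nat.card ↥(V ⊓ centralizer (A₀ : Set G)) <
      Nat.card ↥A * Nat.card ↥(V ⊓ centralizer (A : Set G))
  W0V : W₀ ≤ V
  W0A : W₀ ≤ centralizer (A : Set G)
  moved : ⁅W₀, P⁆ ≠ ⊥
  gen : ∀ x ∈ P, x ∉ M → A ⊔ cj x A = P
  core : ∀ a ∈ A, (∀ g ∈ P, g * a * g⁻¹ ∈ M) → a ∈ centralizer (span P W₀ : Set G)
  pnormal : ∀ K : Subgroup G, K ≤ P → P ≤ normalizer (K : Set G) → IsPGroup p ↥K →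
    K ≤ centralizer (span P W₀ : Set G)

/-- `strict` for all subgroups gives `max`. -/
theorem max_of_strict [Finite G] {V A : Subgroup G}
    (hle : Nat.card ↥V ≤ Nat.card ↥A * Nat.card ↥(V ⊓ centralizer (A : Set G)))
    (hs : ∀ A₀ : Subgroup G, A₀ ≤ A → A₀ ≠ ⊥ → A₀ ≠ A →
      Nat.card ↥A₀ * Nat.card ↥(V ⊓ centralizer (A₀ : Set G)) <
        Nat.card ↥A * Nat.card ↥(V ⊓ centralizer (A : Set G))) (B : Subgroup G) (hB : B ≤ A) :
    Nat.card ↥B * Nat.card ↥(V ⊓ centralizer (B : Set G)) ≤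
      Nat.card ↥A * Nat.card ↥(V ⊓ centralizer (A : Set G)) := by
  by_cases hB0 : B = ⊥
  · subst hB0
    rw [Subgroup.card_bot, one_mul]
    exact (card_le_of_le inf_le_left).trans hle
  by_cases hB1 : B = A
  · rw [hB1]
  exact (hs B hB hB0 hB1).le

/-- `C_A(U)` is normalised by whatever normalises `A` and `U`. -/
theorem inf_centralizer_le_normalizer {P A U : Subgroup G}
    (hU : ∀ g ∈ P ⊓ normalizer (A : Set G), ∀ u ∈ U, g * u * g⁻¹ ∈ U) :
    P ⊓ normalizer (A : Set G) ≤ normalizer ((A ⊓ centralizer (U : Set G) : Subgroup G) : Set G) := by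
  have key : ∀ g ∈ P ⊓ normalizer (A : Set G), ∀ a ∈ A ⊓ centralizer (U : Set G),
      g * a * g⁻¹ ∈ A ⊓ centralizer (U : Set G) := fun g hg a ha => by
    refine ⟨(mem_normalizer_iff.mp hg.2 a).mp ha.1, fun u hu => ?_⟩
    have h1 := ha.2 _ (hU g⁻¹ (inv_mem hg) u hu)
    calc u * (g * a * g⁻¹) = g * (g⁻¹ * u * g⁻¹⁻¹ * a) * g⁻¹ := by group
      _ = g * a * g⁻¹ * u := by rw [h1]; group
  refine fun g hg => mem_normalizer_iff.mpr fun a => ⟨key g hg a, fun ha => ?_⟩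
  have := key g⁻¹ (inv_mem hg) _ ha
  rwa [show g⁻¹ * (g * a * g⁻¹) * g⁻¹⁻¹ = a by group] at this

/-- An offender all of whose invariant subgroups are worse acts quadratically. -/
theorem quad_of [Finite G] {p : ℕ} [Fact p.Prime] {V P A : Subgroup G}
    (hV : Cfsg.IsElementaryAbelian p V) (hPV : P ≤ normalizer (V : Set G))
    (hfaith : P ⊓ centralizer (V : Set G) = ⊥) (hAP : A ≤ P)
    (hA : Cfsg.IsElementaryAbelian p A) (hne : A ≠ ⊥)
    (hle : Nat.card ↥V ≤ Nat.card ↥A * Nat.card ↥(V ⊓ centralizer (A : Set G)))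
    (hmax : ∀ A₀ : Subgroup G, A₀ ≤ A →
      Nat.card ↥A₀ * Nat.card ↥(V ⊓ centralizer (A₀ : Set G)) ≤
        Nat.card ↥A * Nat.card ↥(V ⊓ centralizer (A : Set G)))
    (hstrict : ∀ A₀ : Subgroup G, A₀ ≤ A →
      P ⊓ normalizer (A : Set G) ≤ normalizer (A₀ : Set G) → A₀ ≠ ⊥ → A₀ ≠ A →
      Nat.card ↥A₀ * Nat.card ↥(V ⊓ centralizer (A₀ : Set G)) <
        Nat.card ↥A * Nat.card ↥(V ⊓ centralizer (A : Set G))) :
    ⁅⁅V, A⁆, A⁆ = ⊥ := by
  have conjV' : ∀ {g v : G}, g ∈ P → v ∈ V → g * v * g⁻¹ ∈ V := fun hg hv =>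
    (mem_normalizer_iff.mp (hPV hg) _).mp hv
  have hAV := hAP.trans hPV
  have hab : ⁅A, A⁆ ≤ centralizer (V : Set G) := by
    rw [commutator_le]
    intro a ha b hb
    rw [commutatorElement_eq_one_iff_mul_comm.mpr (Offender.commute_mem hA.1 ha hb)]
    exact one_mem _
  have hpow : ∀ a ∈ A, a ^ p ∈ centralizer (V : Set G) := fun a ha => by
    rw [hA.2 a ha]; exact one_mem _
  obtain ⟨h1, h2⟩ := Offender.timmesfeld hV.1 hAV hab hmax (le_refl V)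
  set A₀ := A ⊓ centralizer ((⁅V, A⁆ : Subgroup G) : Set G) with hA₀
  by_cases e1 : A₀ = A
  · rw [commutator_eq_bot_iff_le_centralizer, le_centralizer_iff]
    exact inf_eq_left.mp e1
  by_cases e0 : A₀ = ⊥
  · exfalso
    rw [e0] at h1
    have hbot : V ⊓ centralizer ((⊥ : Subgroup G) : Set G) = V :=
      inf_eq_left.mpr fun v _ y hy => by rw [mem_bot.mp hy, one_mul, mul_one]
    rw [hbot] at h1
    have hD : ⁅⁅V, A⁆, A⁆ = ⁅V, A⁆ := by
      refine le_antisymm (commutator_le.mpr fun x hx a ha =>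
        commutator_mem_commutator (Offender.commutator_le_left hAV hx) ha) ?_
      rw [commutator_le]
      intro v hv a ha
      have hn : ⁅V, A⁆ ≤ normalizer ((V ⊓ centralizer (A : Set G) : Subgroup G) : Set G) :=
        fun x hx => centralizer_le_normalizer _ fun y hy =>
          Offender.commute_mem hV.1 hy.1 (Offender.commutator_le_left hAV hx)
      obtain ⟨x, hx, c, hc, rfl⟩ := (Coprime.mem_sup_iff_of_le_normalizer hn).mp (h1 ▸ hv)
      have hca : ⁅c, a⁆ = 1 := commutatorElement_eq_one_iff_mul_comm.mpr (hc.2 a ha).symm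
      rw [show ⁅x * c, a⁆ = x * ⁅c, a⁆ * x⁻¹ * ⁅x, a⁆ by simp only [commutatorElement_def]; group,
        hca, mul_one, mul_inv_cancel, one_mul]
      exact commutator_mem_commutator hx ha
    have hVA : ⁅V, A⁆ = ⊥ := Offender.eq_bot_of_commutator_eq hV.1
      (PGroup.isPGroup_of_elementaryAbelian hV) hAV hab hpow (Offender.commutator_le_left hAV) hD
    refine hne (eq_bot_iff.mpr (le_trans (le_inf hAP ?_) hfaith.le))
    exact le_centralizer_iff.mp (commutator_eq_bot_iff_le_centralizer.mp hVA)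
  refine absurd h2.symm (hstrict A₀ inf_le_left ?_ e0 e1).ne
  refine inf_centralizer_le_normalizer fun g hg u hu => ?_
  have : cj g ⁅V, A⁆ ≤ ⁅V, A⁆ := by
    rw [cj, map_commutator]
    refine commutator_mono ?_ ?_
    · rintro _ ⟨v, hv, rfl⟩
      exact conjV' hg.1 hv
    · rintro _ ⟨a, ha, rfl⟩
      exact (mem_normalizer_iff.mp hg.2 a).mp ha
  exact this ⟨u, hu, rfl⟩

namespace Setting

variable {p : ℕ} {V P M A W₀ : Subgroup G} (h : Setting p V P M A W₀)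
include h

theorem AP : A ≤ P := h.AM.trans h.MP

theorem conjV {g v : G} (hg : g ∈ P) (hv : v ∈ V) : g * v * g⁻¹ ∈ V :=
  (mem_normalizer_iff.mp (h.hPV hg) v).mp hv

theorem commV {v w : G} (hv : v ∈ V) (hw : w ∈ V) : v * w = w * v :=
  Offender.commute_mem h.hV.1 hv hw

theorem split {H K : Subgroup G} (hH : H ≤ V) (hK : K ≤ V) {u : G} (hu : u ∈ H ⊔ K) :
    ∃ y ∈ H, ∃ y' ∈ K, y * y' = u :=
  (Coprime.mem_sup_iff_of_le_normalizer fun y hy =>
    centralizer_le_normalizer _ fun z hz => h.commV (hK hz) (hH hy)).mp hu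

theorem exists_not_mem : ∃ x ∈ P, x ∉ M := by
  by_contra hc
  push Not at hc
  exact h.Mne (le_antisymm h.MP hc)

theorem cjA_le {x : G} (hx : x ∈ P) : cj x A ≤ P := fun g hg => by
  obtain ⟨a, ha, rfl⟩ := hg
  exact mul_mem (mul_mem hx (h.AP ha)) (inv_mem hx)

/-- Two conjugates generate. -/
theorem gen2 {g k : G} (hg : g ∈ P) (hk : k ∈ P) (hgk : k⁻¹ * g ∉ M) : cj k A ⊔ cj g A = P := by
  have h1 := congrArg (cj k) (h.gen _ (mul_mem (inv_mem hk) hg) hgk)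
  rw [cj, Subgroup.map_sup] at h1
  change cj k A ⊔ cj k (cj (k⁻¹ * g) A) = cj k P at h1
  rw [cj_cj, mul_inv_cancel_left] at h1
  rw [h1]
  ext y
  rw [mem_cj]
  refine ⟨fun hy => ?_, fun hy => mul_mem (mul_mem (inv_mem hk) hy) hk⟩
  have := mul_mem (mul_mem hk hy) (inv_mem hk)
  rwa [show k * (k⁻¹ * y * k) * k⁻¹ = y by group] at this

/-- Any subgroup over `A` not in `M` is everything. -/
theorem le_M {N : Subgroup G} (hN : N ≤ P) (hAN : A ≤ N) (hne : N ≠ P) : N ≤ M := by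
  intro x hx
  by_contra hxM
  refine hne (le_antisymm hN ?_)
  rw [← h.gen x (hN hx) hxM]
  refine sup_le hAN ?_
  rintro _ ⟨a, ha, rfl⟩
  exact mul_mem (mul_mem hx (hAN ha)) (inv_mem hx)

theorem A_ne_bot : A ≠ ⊥ := by
  intro e
  obtain ⟨x, hx, hxM⟩ := h.exists_not_mem
  have h1 := h.gen x hx hxM
  rw [e, cj, Subgroup.map_bot, sup_bot_eq] at h1
  exact hxM (by rw [← h1, mem_bot] at hx; rw [hx]; exact one_mem M)

theorem spanV : span P W₀ ≤ V := iSup_le fun g => by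
  rintro _ ⟨w, hw, rfl⟩
  exact h.conjV g.2 (h.W0V hw)

theorem conj_span {g u : G} (hg : g ∈ P) (hu : u ∈ span P W₀) : g * u * g⁻¹ ∈ span P W₀ := by
  have hle : cj g (span P W₀) ≤ span P W₀ := by
    rw [span, cj, Subgroup.map_iSup]
    refine iSup_le fun k => ?_
    show cj g (cj (k : G) W₀) ≤ _
    rw [cj_cj]
    exact le_iSup (fun k : ↥P => cj (k : G) W₀) ⟨g * k, mul_mem hg k.2⟩
  exact hle ⟨u, hu, rfl⟩

theorem W0_le_span : W₀ ≤ span P W₀ := by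
  refine le_trans ?_ (le_iSup (fun k : ↥P => cj (k : G) W₀) 1)
  intro w hw
  rw [mem_cj]
  simpa using hw

theorem span_not_central : ¬ span P W₀ ≤ centralizer (P : Set G) := fun hc =>
  h.moved (commutator_eq_bot_iff_le_centralizer.mpr (h.W0_le_span.trans hc))

/-- `C_A(U)` is normalised by whatever normalises `A` and `U`. -/
theorem inf_centralizer_normalized {U : Subgroup G}
    (hU : ∀ g ∈ P ⊓ normalizer (A : Set G), ∀ u ∈ U, g * u * g⁻¹ ∈ U) :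
    P ⊓ normalizer (A : Set G) ≤ normalizer ((A ⊓ centralizer (U : Set G) : Subgroup G) : Set G) :=
  inf_centralizer_le_normalizer hU

theorem quad [Finite G] [Fact p.Prime] : ⁅⁅V, A⁆, A⁆ = ⊥ :=
  quad_of h.hV h.hPV h.faith h.AP h.hA h.A_ne_bot h.le h.max h.strict

/-- `C_V(A)` meets `C_V(A^x)` in `C_V(P)`. -/
theorem meet {x : G} (hx : x ∈ P) (hxM : x ∉ M) {v : G} (hv : v ∈ V)
    (h1 : v ∈ centralizer (A : Set G)) (h2 : v ∈ centralizer ((cj x A : Subgroup G) : Set G)) :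
    v ∈ V ⊓ centralizer (P : Set G) := by
  refine ⟨hv, ?_⟩
  rw [← h.gen x hx hxM, Offender.centralizer_sup_eq]
  exact ⟨h1, h2⟩

theorem comm_mem_centralizer [Finite G] [Fact p.Prime] {v a : G} (hv : v ∈ V) (ha : a ∈ A) :
    ⁅v, a⁆ ∈ V ⊓ centralizer (A : Set G) :=
  ⟨Offender.commutator_le_left (h.AP.trans h.hPV) (commutator_mem_commutator hv ha),
    le_centralizer_iff.mp (Offender.le_centralizer_commutator_of_quadratic h.quad)
      (commutator_mem_commutator hv ha)⟩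

theorem comm_swap [Finite G] [Fact p.Prime] {v a : G} (hv : v ∈ V) (ha : a ∈ A) :
    a * v * a⁻¹ * v⁻¹ ∈ centralizer (A : Set G) := by
  have h1 : ⁅v, a⁆ ∈ centralizer (A : Set G) := (h.comm_mem_centralizer hv ha).2
  have h2 := inv_mem h1
  rwa [commutatorElement_inv, commutatorElement_def] at h2

theorem conj_mem_meet {x v : G} (hx : x ∈ P) (hv : v ∈ V ⊓ centralizer (A : Set G)) :
    x * v * x⁻¹ ∈ V ⊓ centralizer ((cj x A : Subgroup G) : Set G) :=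
  ⟨h.conjV hx hv.1, conj_mem_centralizer hv.2⟩

/-- The span splits over any pair. -/
theorem span_le [Finite G] [Fact p.Prime] {x : G} (hx : x ∈ P) (hxM : x ∉ M) :
    span P W₀ ≤ (span P W₀ ⊓ centralizer (A : Set G)) ⊔
      (span P W₀ ⊓ centralizer ((cj x A : Subgroup G) : Set G)) := by
  set U₁ := span P W₀ ⊓ centralizer (A : Set G)
  set U₂ := span P W₀ ⊓ centralizer ((cj x A : Subgroup G) : Set G)
  set S := U₁ ⊔ U₂
  have hSV : S ≤ V := sup_le (inf_le_left.trans h.spanV) (inf_le_left.trans h.spanV)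
  have hcomm : ∀ w ∈ S, ∀ a ∈ A, a * w * a⁻¹ * w⁻¹ ∈ U₁ := by
    intro w hw a ha
    have hwU : w ∈ span P W₀ := (sup_le inf_le_left inf_le_left : S ≤ span P W₀) hw
    exact mem_inf.mpr ⟨mul_mem (h.conj_span (h.AP ha) hwU) (inv_mem hwU), h.comm_swap (hSV hw) ha⟩
  have hnA : ∀ a ∈ A, ∀ w ∈ S, a * w * a⁻¹ ∈ S := fun a ha w hw => by
    have := mul_mem (mem_sup_left (hcomm w hw a ha) : _ ∈ S) hw
    rwa [inv_mul_cancel_right] at this
  have hnB : ∀ b ∈ cj x A, ∀ w ∈ S, b * w * b⁻¹ ∈ S := by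
    rintro _ ⟨a, ha, rfl⟩ w hw
    show x * a * x⁻¹ * w * (x * a * x⁻¹)⁻¹ ∈ S
    have hwV := hSV hw
    have hwU : w ∈ span P W₀ := (sup_le inf_le_left inf_le_left : S ≤ span P W₀) hw
    have hw' : x⁻¹ * w * x ∈ V := by simpa using h.conjV (inv_mem hx) hwV
    have hc : a * (x⁻¹ * w * x) * a⁻¹ * (x⁻¹ * w * x)⁻¹ ∈ span P W₀ ⊓ centralizer (A : Set G) := by
      have hu : x⁻¹ * w * x ∈ span P W₀ := by simpa using h.conj_span (inv_mem hx) hwU
      exact mem_inf.mpr ⟨mul_mem (h.conj_span (h.AP ha) hu) (inv_mem hu), h.comm_swap hw' ha⟩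
    have hc' : x * a * x⁻¹ * w * (x * a * x⁻¹)⁻¹ * w⁻¹ ∈ U₂ := by
      rw [show x * a * x⁻¹ * w * (x * a * x⁻¹)⁻¹ * w⁻¹ =
        x * (a * (x⁻¹ * w * x) * a⁻¹ * (x⁻¹ * w * x)⁻¹) * x⁻¹ by group]
      exact ⟨h.conj_span hx hc.1, conj_mem_centralizer hc.2⟩
    have := mul_mem (mem_sup_right hc' : _ ∈ S) hw
    rwa [inv_mul_cancel_right] at this
  let K : Subgroup G :=
    { carrier := {g | (∀ w ∈ S, g * w * g⁻¹ ∈ S) ∧ ∀ w ∈ S, g⁻¹ * w * g ∈ S}
      one_mem' := ⟨fun w hw => by simpa using hw, fun w hw => by simpa using hw⟩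
      mul_mem' := fun {g k} hg hk =>
        ⟨fun w hw => by rw [show g * k * w * (g * k)⁻¹ = g * (k * w * k⁻¹) * g⁻¹ by group]; exact hg.1 _ (hk.1 w hw),
          fun w hw => by rw [show (g * k)⁻¹ * w * (g * k) = k⁻¹ * (g⁻¹ * w * g) * k by group]; exact hk.2 _ (hg.2 w hw)⟩
      inv_mem' := fun {g} hg => ⟨fun w hw => by simpa using hg.2 w hw, fun w hw => by simpa using hg.1 w hw⟩ }
  have hPK : P ≤ K := by
    rw [← h.gen x hx hxM]
    refine sup_le (fun a ha => ⟨hnA a ha, fun w hw => ?_⟩) (fun b hb => ⟨hnB b hb, fun w hw => ?_⟩)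
    · simpa using hnA a⁻¹ (inv_mem ha) w hw
    · simpa using hnB b⁻¹ (inv_mem hb) w hw
  have hW : W₀ ≤ S := fun w hw => mem_sup_left ⟨h.W0_le_span hw, h.W0A hw⟩
  refine iSup_le fun g => ?_
  rintro _ ⟨w, hw, rfl⟩
  exact (hPK g.2).1 w (hW hw)

/-- A vector moved by `a` into `C_V(P)` lies in `C_V(A)`, when the pair for `a` splits it. -/
theorem mem_of_comm {a v : G} (ha : a ∈ A) {x : G} (hx : x ∈ P) (hgen : zpowers a ⊔ cj x A = P)
    {y y' : G} (hy : y ∈ V ⊓ centralizer (A : Set G))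
    (hy' : y' ∈ V ⊓ centralizer ((cj x A : Subgroup G) : Set G)) (hv : v = y * y')
    (hc : a * v * a⁻¹ * v⁻¹ ∈ V ⊓ centralizer (P : Set G)) :
    v ∈ V ⊓ centralizer (A : Set G) := by
  set Z := V ⊓ centralizer (P : Set G)
  have hZc : ∀ z ∈ Z, ∀ g ∈ P, g * z * g⁻¹ = z := fun z hz g hg => by
    rw [hz.2 g hg, mul_inv_cancel_right]
  let f : G → G := fun g => g * y' * g⁻¹ * y'⁻¹
  have hfmul : ∀ g k, g ∈ P → f k ∈ Z → f (g * k) = f k * f g := fun g k hg hk => by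
    show g * k * y' * (g * k)⁻¹ * y'⁻¹ = f k * (g * y' * g⁻¹ * y'⁻¹)
    rw [show g * k * y' * (g * k)⁻¹ * y'⁻¹ = g * f k * g⁻¹ * (g * y' * g⁻¹ * y'⁻¹) by
      show _ = g * (k * y' * k⁻¹ * y'⁻¹) * g⁻¹ * _
      group, hZc _ hk g hg]
  have hfa : f a ∈ Z := by
    have e : a * v * a⁻¹ * v⁻¹ = f a := by
      have hya : a * y * a⁻¹ = y := by rw [hy.2 a ha, mul_inv_cancel_right]
      have hw : a * y' * a⁻¹ * y'⁻¹ ∈ V := mul_mem (h.conjV (h.AP ha) hy'.1) (inv_mem hy'.1)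
      calc a * v * a⁻¹ * v⁻¹ = (a * y * a⁻¹) * (a * y' * a⁻¹ * y'⁻¹) * y⁻¹ := by rw [hv]; group
        _ = f a := by rw [hya, h.commV hy.1 hw, mul_inv_cancel_right]
    exact e ▸ hc
  have hfB : ∀ b ∈ cj x A, f b = 1 := fun b hb => by
    show b * y' * b⁻¹ * y'⁻¹ = 1
    rw [hy'.2 b hb]; group
  let S : Subgroup G :=
    { carrier := {g | g ∈ P ∧ f g ∈ Z}
      one_mem' := ⟨one_mem P, by show 1 * y' * 1⁻¹ * y'⁻¹ ∈ Z; simp⟩
      mul_mem' := fun {g k} hg hk => ⟨mul_mem hg.1 hk.1, by rw [hfmul g k hg.1 hk.2]; exact mul_mem hk.2 hg.2⟩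
      inv_mem' := fun {g} hg => ⟨inv_mem hg.1, by
        show g⁻¹ * y' * g⁻¹⁻¹ * y'⁻¹ ∈ Z
        rw [show g⁻¹ * y' * g⁻¹⁻¹ * y'⁻¹ = g⁻¹ * (g * y' * g⁻¹ * y'⁻¹)⁻¹ * g⁻¹⁻¹ by group,
          hZc _ (inv_mem hg.2) _ (inv_mem hg.1)]
        exact inv_mem hg.2⟩ }
  have hPS : P ≤ S := by
    rw [← hgen, sup_le_iff, zpowers_le]
    exact ⟨⟨h.AP ha, hfa⟩, fun b hb => ⟨h.cjA_le hx hb, by rw [hfB b hb]; exact one_mem Z⟩⟩
  have hfA : ∀ b ∈ A, f b = 1 := by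
    intro b hb
    have hb' : x * b * x⁻¹ ∈ cj x A := ⟨b, hb, rfl⟩
    have h1 := hfB _ hb'
    have h2 : f (x⁻¹ * (x * b * x⁻¹) * x) = f x * f (x * b * x⁻¹) * f x⁻¹ := by
      rw [mul_assoc x⁻¹, hfmul _ _ (inv_mem hx) (hPS (mul_mem (h.cjA_le hx hb') hx)).2,
        hfmul _ _ (h.cjA_le hx hb') (hPS hx).2]
    have h3 : f x * f x⁻¹ = 1 := by
      rw [← hfmul _ _ (inv_mem hx) (hPS hx).2, inv_mul_cancel]
      show 1 * y' * 1⁻¹ * y'⁻¹ = 1
      group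
    rw [show x⁻¹ * (x * b * x⁻¹) * x = b by group, h1, mul_one, h3] at h2
    exact h2
  have hy'A : y' ∈ centralizer (A : Set G) := fun b hb =>
    mul_inv_eq_iff_eq_mul.mp (mul_inv_eq_one.mp (hfA b hb))
  rw [hv]
  exact mul_mem hy ⟨hy'.1, hy'A⟩

theorem exists_gen {a : G} (ha : a ∈ A) (hac : a ∉ centralizer (span P W₀ : Set G)) :
    ∃ x ∈ P, x ∉ M ∧ zpowers a ⊔ cj x A = P := by
  obtain ⟨g, hg, hgM⟩ : ∃ g ∈ P, g * a * g⁻¹ ∉ M := by
    by_contra hc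
    push Not at hc
    exact hac (h.core a ha hc)
  have hgM' : g⁻¹ ∉ M := fun hm => by
    have hm' := M.inv_mem hm
    rw [inv_inv] at hm'
    exact hgM (mul_mem (mul_mem hm' (h.AM ha)) (inv_mem hm'))
  refine ⟨g⁻¹, inv_mem hg, hgM', le_antisymm (sup_le (zpowers_le.mpr (h.AP ha)) (h.cjA_le (inv_mem hg))) ?_⟩
  set N := zpowers a ⊔ cj g⁻¹ A
  have haN : a ∈ N := mem_sup_left (mem_zpowers a)
  have hk : g⁻¹⁻¹ * (a * g⁻¹) ∉ M := by rwa [inv_inv, ← mul_assoc]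
  rw [← h.gen2 (mul_mem (h.AP ha) (inv_mem hg)) (inv_mem hg) hk]
  refine sup_le le_sup_right ?_
  rw [← cj_cj]
  rintro _ ⟨b, hb, rfl⟩
  exact mul_mem (mul_mem haN (mem_sup_right hb)) (inv_mem haN)

end Setting

end Cfsg.Agent.FFPair
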